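import Groth.Agent.Ref1.Generators
import Groth.Agent.QCohLib.Affine
import Groth.Agent.QCohLib.StalkLoc
import Groth.Prelude.Def_FlatMod2

/-!
# Global generators from local generators over an affine scheme
-/

universe u

open CategoryTheory CategoryTheory.Limits AlgebraicGeometry TopologicalSpace Opposite SheafOfModules

set_option backward.isDefEq.respectTransparency false

namespace Groth.Agent.GenCount

variable {X : Scheme.{u}}

/-- Generating sections over an open from an epimorphism out of a free module. -/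
theorem exists_germ_span (F : X.Modules) (U : X.Opens) (n : ℕ)
    (φ : FlatMod.freeMod (U : Scheme.{u}) n ⟶ F.restrict U.ι) [Epi φ] :
    ∃ t : Fin n → Γ(F, U.ι ''ᵁ ⊤), ∀ (w : (U : Scheme.{u})), Submodule.span (X.presheaf.stalk (U.ι w))
        (Set.range fun k => F.presheaf.germ (U.ι ''ᵁ ⊤) (U.ι w) ⟨w, trivial, rfl⟩ (t k)) = ⊤ := by
  classical
  let ψ : Ref1.freeMod (U : Scheme.{u}) (ULift.{u} (Fin n)) ⟶ FlatMod.freeMod (U : Scheme.{u}) n :=
    Cofan.IsColimit.desc (isColimitFreeCofan (R := (U : Scheme.{u}).ringCatSheaf) (ULift.{u} (Fin n))) fun j =>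
      Sigma.ι (fun _ : Fin n => Coh.structureModule (U : Scheme.{u})) j.down
  have hψ : Epi ψ := ⟨fun g h e => Sigma.hom_ext _ _ fun k => by
    have e' := congrArg (fun f => Ref1.freeIn (U : Scheme.{u}) (ULift.up k) ≫ f) e
    have hk : Ref1.freeIn (U : Scheme.{u}) (ULift.up k) ≫ ψ =
        Sigma.ι (fun _ : Fin n => Coh.structureModule (U : Scheme.{u})) k :=
      Cofan.IsColimit.fac (isColimitFreeCofan (R := (U : Scheme.{u}).ringCatSheaf) _) _ _
    simp only [← Category.assoc] at e'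
    rw [hk] at e'
    exact e'⟩
  let π : Ref1.freeMod (U : Scheme.{u}) (ULift.{u} (Fin n)) ⟶ F.restrict U.ι := ψ ≫ φ
  have hπ : Epi π := epi_comp _ _
  refine ⟨fun k => (Ref1.freeIn _ (ULift.up k) ≫ π).app ⊤ (show Γ((U : Scheme.{u}), ⊤) from 1), fun w => ?_⟩
  rw [eq_top_iff]
  rintro m -
  obtain ⟨Q, hyQ, s, rfl⟩ := F.presheaf.exists_germ_eq m
  let s' : Γ(F.restrict U.ι, U.ι ⁻¹ᵁ Q) := F.presheaf.map (homOfLE (U.ι.image_preimage_le Q)).op s
  obtain ⟨V', hV', ⟨z, hz⟩, hwV'⟩ := (QCohLib.epi_iff_locally_surjective π).mp hπ (U.ι ⁻¹ᵁ Q) s' w hyQ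
  have hmem := Ref1.germ_mem_span_of_sum U.ι F (le_top : V' ≤ ⊤)
    (fun j : ULift.{u} (Fin n) => (Ref1.freeIn _ j ≫ π).app ⊤ (show Γ((U : Scheme.{u}), ⊤) from 1)) _ w hwV' _
    (hz.symm.trans (Ref1.free_app_eq_sum π z))
  refine Submodule.span_mono ?_ (Eq.subst (motive := (· ∈ _)) (Ref1.germ_restrict_res U.ι F hV' w hwV' s) hmem)
  rintro _ ⟨j, rfl⟩
  exact ⟨j.down, rfl⟩

/-- Sections generating all stalks of a quasi-coherent module on an affine scheme generate its sections. -/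
theorem span_eq_top_of_germ {U : X.Opens} (hU : IsAffineOpen U) (F : X.Modules) [F.IsQuasicoherent] {ι : Type*}
    (x : ι → Γ(F, U))
    (h : ∀ (y : X) (hy : y ∈ U), Submodule.span (X.presheaf.stalk y)
      (Set.range fun k => F.presheaf.germ U y hy (x k)) = ⊤) :
    Submodule.span Γ(X, U) (Set.range x) = ⊤ := by
  rw [eq_top_iff]
  rintro z -
  let N := Submodule.span Γ(X, U) (Set.range x)
  let J : Ideal Γ(X, U) := N.comap (LinearMap.toSpanSingleton Γ(X, U) Γ(F, U) z)
  suffices hJ : J = ⊤ by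
    have : (1 : Γ(X, U)) ∈ J := hJ ▸ Submodule.mem_top
    simpa [J] using this
  refine (Ideal.span_eq J).symm.trans ((hU.self_le_iSup_basicOpen_iff).1 fun y hy => ?_)
  obtain ⟨c, hc, w, hw, e⟩ : ∃ c : Γ(X, U), y ∈ X.basicOpen c ∧ ∃ w ∈ N,
      X.presheaf.germ U y hy c • (F.presheaf.germ U y hy z : F.presheaf.stalk y) = F.presheaf.germ U y hy w := by
    have hz : (F.presheaf.germ U y hy z : F.presheaf.stalk y) ∈ Submodule.span (X.presheaf.stalk y)
        (Set.range fun k => F.presheaf.germ U y hy (x k)) := h y hy ▸ Submodule.mem_top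
    generalize (F.presheaf.germ U y hy z : F.presheaf.stalk y) = g at hz ⊢
    induction hz using Submodule.span_induction with
    | mem m hm =>
      obtain ⟨k, rfl⟩ := hm
      exact ⟨1, by rw [X.basicOpen_of_isUnit isUnit_one]; exact hy, x k, Submodule.subset_span ⟨k, rfl⟩,
        by rw [map_one, one_smul]⟩
    | zero => exact ⟨1, by rw [X.basicOpen_of_isUnit isUnit_one]; exact hy, 0, N.zero_mem,
        by rw [map_one, one_smul, map_zero]⟩
    | add a b _ _ ha hb =>
      obtain ⟨c, hc, w, hw, e⟩ := ha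
      obtain ⟨c', hc', w', hw', e'⟩ := hb
      refine ⟨c * c', by rw [X.basicOpen_mul]; exact ⟨hc, hc'⟩, c' • w + c • w',
        add_mem (N.smul_mem _ hw) (N.smul_mem _ hw'), ?_⟩
      rw [map_mul, smul_add, map_add, QCohLib.germ_smul, QCohLib.germ_smul, ← e, ← e', smul_smul, smul_smul,
        mul_comm (X.presheaf.germ U y hy c') _]
    | smul a m _ hm =>
      obtain ⟨c, hc, w, hw, e⟩ := hm
      letI := TopCat.Presheaf.algebra_section_stalk X.presheaf ⟨y, hy⟩
      haveI := hU.isLocalization_stalk ⟨y, hy⟩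
      obtain ⟨⟨r, ⟨d, hd⟩⟩, hr⟩ := IsLocalization.surj (hU.primeIdealOf ⟨y, hy⟩).asIdeal.primeCompl a
      have hr' : a * X.presheaf.germ U y hy d = X.presheaf.germ U y hy r := hr
      refine ⟨c * d, by rw [X.basicOpen_mul]; exact ⟨hc, (QCohLib.mem_basicOpen_iff_notMem_primeIdealOf hU hy d).2 hd⟩,
        r • w, N.smul_mem _ hw, ?_⟩
      rw [QCohLib.germ_smul, ← e, ← hr', map_mul, smul_smul, smul_smul]
      congr 1
      ring
  have h0 : F.presheaf.germ U y hy (c • z - w) = 0 := by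
    rw [map_sub, QCohLib.germ_smul, e, sub_self]
  obtain ⟨c', hc', e'⟩ := (QCohLib.germ_eq_zero_iff hU y hy _).1 h0
  have hmem : c' * c ∈ J := by
    show (c' * c) • z ∈ N
    rw [mul_smul]
    rw [smul_sub, sub_eq_zero] at e'
    exact e' ▸ N.smul_mem _ hw
  exact Opens.mem_iSup.2 ⟨⟨c' * c, hmem⟩, by rw [X.basicOpen_mul]; exact ⟨hc', hc⟩⟩

end Groth.Agent.GenCount
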